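import Mathlib

/-!
# The arithmetic of the indices below 50
-/

set_option autoImplicit false

namespace Cfsg.Agent.Helper9.U35M

/-- the test of the orbit of the fixed point of a Sylow 5-subgroup. -/
def chkA (h : ℕ) : Bool :=
  [5, 25, 125, 625, 3125, 15625, 78125].any fun q => (List.range 127).any fun o =>
    decide (0 < o ∧ q ∣ h ∧ ¬ 5 ∣ h / q ∧ o ∣ h ∧ h / o ∣ 1000 ∧ q ∣ h / o ∧ q ∣ o - 1)

/-- the test of the number of Sylow 7-subgroups. -/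
def chkC (h : ℕ) : Bool := [7, 21].any fun d => decide (d ∣ h ∧ (h / d) % 7 = 1)

theorem chkA_of (h : ℕ) (hh : h ≤ 126000) (hh0 : 0 < h)
    (hA : ∃ q o s k : ℕ, q = 5 ^ k ∧ 0 < k ∧ q ∣ h ∧ ¬ 5 ∣ h / q ∧ h = o * s ∧ s ∣ 1000 ∧ q ∣ s ∧
      o ≤ 126 ∧ 0 < o ∧ q ∣ o - 1) : chkA h = true := by
  obtain ⟨q, o, s, k, hq, hk, hqh, h5, hos, hs, hqs, ho, ho0, hqo⟩ := hA
  have hk8 : k < 8 := by
    by_contra hcon
    have h1 : 5 ^ 8 ∣ h := (pow_dvd_pow 5 (by omega)).trans (hq ▸ hqh)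
    have := Nat.le_of_dvd hh0 h1
    norm_num at this
    omega
  have hs' : h / o = s := by
    rw [hos, Nat.mul_div_cancel_left _ ho0]
  unfold chkA
  rw [List.any_eq_true]
  refine ⟨q, ?_, ?_⟩
  · subst hq
    interval_cases k <;> simp
  · rw [List.any_eq_true]
    refine ⟨o, List.mem_range.mpr (by omega), ?_⟩
    rw [decide_eq_true_eq, hs']
    exact ⟨ho0, hqh, h5, ⟨s, hos⟩, hs, hqs, hqo⟩

theorem chkC_of (h : ℕ) (hC : ∃ m d : ℕ, h = m * d ∧ m % 7 = 1 ∧ d ∣ 21 ∧ 7 ∣ d) :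
    chkC h = true := by
  obtain ⟨m, d, hmd, hm, hd, h7⟩ := hC
  have hd0 : 0 < d := Nat.pos_of_dvd_of_pos hd (by norm_num)
  have hd21 : d ≤ 21 := Nat.le_of_dvd (by norm_num) hd
  have hd' : d = 7 ∨ d = 21 := by
    obtain ⟨c, rfl⟩ := h7
    have : c ≤ 3 := by omega
    interval_cases c
    · omega
    · left; rfl
    · exfalso; norm_num at hd
    · right; rfl
  have hq : h / d = m := by rw [hmd, Nat.mul_div_cancel _ hd0]
  unfold chkC
  rw [List.any_eq_true]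
  refine ⟨d, ?_, ?_⟩
  · rcases hd' with rfl | rfl <;> simp
  · rw [decide_eq_true_eq, hq]
    exact ⟨⟨m, by rw [hmd, mul_comm]⟩, hm⟩

set_option maxRecDepth 100000 in
theorem arith_chk : ∀ n ∈ List.range 50, n ≠ 0 → n ≠ 1 → 126000 % n = 0 → 126000 ∣ n.factorial →
    (5 ∣ 126000 / n → chkA (126000 / n) = true) → (7 ∣ 126000 / n → chkC (126000 / n) = true) →
    False := by
  decide +kernel

theorem arith (n h : ℕ) (hnh : n * h = 126000) (hn : n < 50) (hn1 : n ≠ 1)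
    (hfact : 126000 ∣ n.factorial)
    (hA : 5 ∣ h → ∃ q o s k : ℕ, q = 5 ^ k ∧ 0 < k ∧ q ∣ h ∧ ¬ 5 ∣ h / q ∧ h = o * s ∧
      s ∣ 1000 ∧ q ∣ s ∧ o ≤ 126 ∧ 0 < o ∧ q ∣ o - 1)
    (hC : 7 ∣ h → ∃ m d : ℕ, h = m * d ∧ m % 7 = 1 ∧ d ∣ 21 ∧ 7 ∣ d) : False := by
  have hn0 : n ≠ 0 := by
    rintro rfl
    simp at hnh
  have hdiv : 126000 / n = h := by
    rw [← hnh, Nat.mul_div_cancel_left _ (Nat.pos_of_ne_zero hn0)]
  have hmod : 126000 % n = 0 := by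
    rw [← hnh]
    exact Nat.mul_mod_right n h
  have hh0 : 0 < h := by
    rcases Nat.eq_zero_or_pos h with rfl | hp
    · simp at hnh
    · exact hp
  have hh : h ≤ 126000 := by
    rw [← hnh]
    exact Nat.le_mul_of_pos_left h (Nat.pos_of_ne_zero hn0)
  apply arith_chk n (List.mem_range.mpr hn) hn0 hn1 hmod hfact
  · rw [hdiv]
    intro h5
    exact chkA_of h hh hh0 (hA h5)
  · rw [hdiv]
    intro h7
    exact chkC_of h (hC h7)

end Cfsg.Agent.Helper9.U35M
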