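import Mathlib

/-!
# Counting lemmas for a group of order 126000 acting on 126 points

A finite group acting freely on an invariant finite set; the orbit of the fixed point of a Sylow
5-subgroup of a subgroup, when the elements of order 5 of the whole group have at most one fixed
point.
-/

set_option autoImplicit false

namespace Cfsg.Agent.Helper9.U35M

open MulAction

section free

variable {T X : Type*} [Group T] [MulAction T X] [Finite T] [DecidableEq X]

/-- an invariant finite set on which a finite group acts freely has size divisible by the order
of the group. -/
theorem card_dvd_of_free : ∀ (n : ℕ) (Y : Finset X), Y.card = n →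
    (∀ t : T, ∀ y ∈ Y, t • y ∈ Y) → (∀ y ∈ Y, ∀ t : T, t • y = y → t = 1) →
    Nat.card T ∣ Y.card := by
  intro n
  induction n using Nat.strong_induction_on with
  | _ n ih =>
    intro Y hn hinv hfree
    haveI : Fintype T := Fintype.ofFinite T
    rcases Y.eq_empty_or_nonempty with rfl | ⟨y, hy⟩
    · simp
    · let O : Finset X := Finset.univ.image (fun t : T => t • y)
      have hOcard : O.card = Nat.card T := by
        rw [Nat.card_eq_fintype_card, ← Finset.card_univ]
        apply Finset.card_image_of_injective
        intro t t' htt
        have h1 : (t'⁻¹ * t) • y = y := by
          rw [mul_smul]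
          change t • y = t' • y at htt
          rw [htt, inv_smul_smul]
        have h2 := hfree y hy _ h1
        exact (inv_mul_eq_one.mp h2).symm
      have hsub : O ⊆ Y := by
        intro x hx
        obtain ⟨t, -, rfl⟩ := Finset.mem_image.mp hx
        exact hinv t y hy
      have hcard : Y.card = O.card + (Y \ O).card := by
        rw [Finset.card_sdiff_of_subset hsub]
        have := Finset.card_le_card hsub
        omega
      have hpos : 0 < O.card := by
        rw [hOcard]
        exact Nat.card_pos
      have hlt : (Y \ O).card < n := by omega
      have h2 : Nat.card T ∣ (Y \ O).card := by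
        apply ih _ hlt _ rfl
        · intro t x hx
          rw [Finset.mem_sdiff] at hx ⊢
          refine ⟨hinv t x hx.1, ?_⟩
          intro hcon
          apply hx.2
          obtain ⟨t', -, ht'⟩ := Finset.mem_image.mp hcon
          refine Finset.mem_image.mpr ⟨t⁻¹ * t', Finset.mem_univ _, ?_⟩
          change (t⁻¹ * t') • y = x
          rw [mul_smul]
          change t' • y = t • x at ht'
          rw [ht', inv_smul_smul]
        · intro x hx
          exact hfree x (Finset.mem_sdiff.mp hx).1
      rw [hcard, hOcard]
      exact Nat.dvd_add dvd_rfl h2

end free

end Cfsg.Agent.Helper9.U35M
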