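import Mathlib
import Cfsg.Agent.Helper9.U35M.Free

/-!
# The orbit of the fixed point of a Sylow 5-subgroup

A group of order 126000 acts transitively on 126 points and its elements of order 5 have at most one
fixed point.  For a subgroup `H` of order divisible by 5 with Sylow 5-subgroup of order `q`: the
order of `H` is `o * s` with `s ∣ 1000`, `q ∣ s`, `o ≤ 126` and `q ∣ o - 1`.
-/

set_option autoImplicit false

namespace Cfsg.Agent.Helper9.U35M

open MulAction

variable {G X : Type*} [Group G] [Finite G] [Fintype X] [DecidableEq X] [MulAction G X]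

theorem pow_smul_eq_self {g : G} {x : X} (h : g • x = x) (n : ℕ) : g ^ n • x = x := by
  have h1 : g ∈ stabilizer G x := h
  exact (stabilizer G x).pow_mem h1 n

theorem card_stabilizer_of_transitive [IsPretransitive G X] (hG : Nat.card G = 126000)
    (hX : Fintype.card X = 126) (x : X) : Nat.card (stabilizer G x) = 1000 := by
  have h1 := index_stabilizer_of_transitive G x
  rw [Nat.card_eq_fintype_card, hX] at h1
  have h2 := Subgroup.index_mul_card (stabilizer G x)
  rw [h1, hG] at h2
  omega

theorem lemmaA [IsPretransitive G X] (hG : Nat.card G = 126000) (hX : Fintype.card X = 126)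
    (h5 : ∀ g : G, orderOf g = 5 → ∀ x y : X, g • x = x → g • y = y → x = y)
    (H : Subgroup G) (hH5 : 5 ∣ Nat.card H) :
    ∃ q o s k : ℕ, q = 5 ^ k ∧ 0 < k ∧ q ∣ Nat.card H ∧ ¬ 5 ∣ Nat.card H / q ∧
      Nat.card H = o * s ∧ s ∣ 1000 ∧ q ∣ s ∧ o ≤ 126 ∧ 0 < o ∧ q ∣ o - 1 := by
  have hp : Fact (Nat.Prime 5) := ⟨by norm_num⟩
  obtain ⟨P⟩ : Nonempty (Sylow 5 H) := inferInstance
  obtain ⟨k, hk⟩ := (IsPGroup.iff_card (p := 5)).mp P.isPGroup'
  have hidx : ¬ 5 ∣ (P : Subgroup H).index := P.not_dvd_index
  have hmul : (P : Subgroup H).index * Nat.card (P : Subgroup H) = Nat.card H :=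
    Subgroup.index_mul_card _
  have hk0 : 0 < k := by
    rcases Nat.eq_zero_or_pos k with rfl | h
    · exfalso
      rw [pow_zero] at hk
      rw [hk, mul_one] at hmul
      rw [hmul] at hidx
      exact hidx hH5
    · exact h
  have hqpos : 0 < Nat.card (P : Subgroup H) := Nat.card_pos
  -- the fixed point
  have hX' : ¬ 5 ∣ Nat.card X := by
    rw [Nat.card_eq_fintype_card, hX]
    norm_num
  obtain ⟨p0, hp0⟩ := P.isPGroup'.nonempty_fixed_point_of_prime_not_dvd_card X hX'
  have hp0' : ∀ t : ↥(P : Subgroup H), t • p0 = p0 := fun t => hp0 t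
  have hfree : ∀ t : ↥(P : Subgroup H), t ≠ 1 → ∀ x : X, t • x = x → x = p0 := by
    intro t ht x hx
    obtain ⟨j, hj⟩ := (IsPGroup.iff_orderOf.mp P.isPGroup') t
    have hj0 : j ≠ 0 := by
      rintro rfl
      rw [pow_zero, orderOf_eq_one_iff] at hj
      exact ht hj
    have ho : orderOf (t ^ (orderOf t / 5)) = 5 :=
      orderOf_pow_orderOf_div (by rw [hj]; positivity) (by rw [hj]; exact dvd_pow_self 5 hj0)
    have ho' : orderOf (((t ^ (orderOf t / 5) : ↥(P : Subgroup H)) : H) : G) = 5 := by
      rw [Subgroup.orderOf_coe, Subgroup.orderOf_coe, ho]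
    exact h5 _ ho' x p0 (pow_smul_eq_self hx _) (pow_smul_eq_self (hp0' t) _)
  -- orbit and stabilizer
  have hos : (stabilizer H p0).index * Nat.card (stabilizer H p0) = Nat.card H :=
    Subgroup.index_mul_card _
  have ho126 : (stabilizer H p0).index ≤ 126 := by
    rw [index_stabilizer]
    have := Set.ncard_le_card (orbit H p0)
    rwa [Nat.card_eq_fintype_card, hX] at this
  have hopos : 0 < (stabilizer H p0).index := by
    rcases Nat.eq_zero_or_pos (stabilizer H p0).index with h | h
    · rw [h, zero_mul] at hos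
      have : 0 < Nat.card H := Nat.card_pos
      omega
    · exact h
  have hs1000 : Nat.card (stabilizer H p0) ∣ 1000 := by
    have hle : (stabilizer H p0).map H.subtype ≤ stabilizer G p0 := by
      rintro _ ⟨h, hh, rfl⟩
      exact hh
    have h1 := Subgroup.card_dvd_of_le hle
    rw [Subgroup.card_map_of_injective H.subtype_injective,
      card_stabilizer_of_transitive hG hX p0] at h1
    exact h1
  have hqs : Nat.card (P : Subgroup H) ∣ Nat.card (stabilizer H p0) := by
    apply Subgroup.card_dvd_of_le
    intro t ht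
    exact hp0' ⟨t, ht⟩
  -- the congruence
  have hcong : Nat.card (P : Subgroup H) ∣ (stabilizer H p0).index - 1 := by
    classical
    let O : Finset X := (Set.toFinite (orbit H p0)).toFinset
    have hO : ∀ x, x ∈ O ↔ x ∈ orbit H p0 := fun x => Set.Finite.mem_toFinset _
    have hOcard : O.card = (stabilizer H p0).index := by
      rw [index_stabilizer, Set.ncard_eq_toFinset_card _ (Set.toFinite (orbit H p0))]
    have hp0O : p0 ∈ O := (hO p0).mpr (mem_orbit_self p0)
    have hY : (O.erase p0).card = (stabilizer H p0).index - 1 := by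
      rw [Finset.card_erase_of_mem hp0O, hOcard]
    rw [← hY]
    apply card_dvd_of_free (T := ↥(P : Subgroup H)) _ _ rfl
    · intro t y hy
      rw [Finset.mem_erase] at hy ⊢
      constructor
      · intro hcon
        apply hy.1
        have : t⁻¹ • (t • y) = t⁻¹ • p0 := by rw [hcon]
        rw [inv_smul_smul, hp0' t⁻¹] at this
        exact this
      · rw [hO] at hy ⊢
        obtain ⟨h, rfl⟩ := hy.2
        exact ⟨(t : H) * h, mul_smul (t : H) h p0⟩
    · intro y hy t hty
      by_contra ht
      exact (Finset.mem_erase.mp hy).1 (hfree t ht y hty)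
  refine ⟨Nat.card (P : Subgroup H), (stabilizer H p0).index, Nat.card (stabilizer H p0), k, hk,
    hk0, Subgroup.card_subgroup_dvd_card _, ?_, hos.symm, hs1000, hqs, ho126, hopos, hcong⟩
  rw [← hmul, Nat.mul_div_cancel _ hqpos]
  exact hidx

end Cfsg.Agent.Helper9.U35M
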