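import Mathlib

/-!
# Sylow 7-subgroups of subgroups of a group of order 126000

If the normalizer of a Sylow 7-subgroup of a group of order 126000 has order 21, the order of a
subgroup `H` with `7 ∣ |H|` is `m * d` with `m ≡ 1 (mod 7)` and `d = 7` or `d = 21`.
-/

set_option autoImplicit false

namespace Cfsg.Agent.Helper9.U35M

variable {G : Type*} [Group G] [Finite G]

theorem factorization_seven (hG : Nat.card G = 126000) : (Nat.card G).factorization 7 = 1 := by
  have hp : Nat.Prime 7 := by norm_num
  have hG0 : Nat.card G ≠ 0 := Nat.card_pos.ne'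
  have h1 : 1 ≤ (Nat.card G).factorization 7 := by
    apply (hp.pow_dvd_iff_le_factorization hG0).mp
    rw [hG]
    norm_num
  have h2 : ¬ 2 ≤ (Nat.card G).factorization 7 := by
    intro h
    have := (hp.pow_dvd_iff_le_factorization hG0).mpr h
    rw [hG] at this
    norm_num at this
  omega

/-- all normalizers of Sylow subgroups have the same order. -/
theorem card_normalizer_sylow (p : ℕ) [Fact p.Prime] (P Q : Sylow p G) :
    Nat.card (Subgroup.normalizer ((P : Subgroup G) : Set G)) =
      Nat.card (Subgroup.normalizer ((Q : Subgroup G) : Set G)) := by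
  have h1 := Subgroup.index_mul_card (Subgroup.normalizer ((P : Subgroup G) : Set G))
  have h2 := Subgroup.index_mul_card (Subgroup.normalizer ((Q : Subgroup G) : Set G))
  have e1 : Nat.card (Sylow p G) = (Subgroup.normalizer ((P : Subgroup G) : Set G)).index :=
    P.card_eq_index_normalizer
  have e2 : Nat.card (Sylow p G) = (Subgroup.normalizer ((Q : Subgroup G) : Set G)).index :=
    Q.card_eq_index_normalizer
  rw [← e1] at h1
  rw [← e2, ← h1] at h2
  have hpos : 0 < Nat.card (Sylow p G) := Nat.card_pos
  exact (Nat.eq_of_mul_eq_mul_left hpos h2).symm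

theorem syl7 (hG : Nat.card G = 126000) (P7 : Sylow 7 G)
    (hN : Nat.card (Subgroup.normalizer ((P7 : Subgroup G) : Set G)) = 21)
    (H : Subgroup G) (hH7 : 7 ∣ Nat.card H) :
    ∃ m d : ℕ, Nat.card H = m * d ∧ m % 7 = 1 ∧ d ∣ 21 ∧ 7 ∣ d := by
  have hp : Fact (Nat.Prime 7) := ⟨by norm_num⟩
  obtain ⟨Q⟩ : Nonempty (Sylow 7 H) := inferInstance
  have hfG := factorization_seven hG
  -- the order of Q
  have hH0 : Nat.card H ≠ 0 := Nat.card_pos.ne'
  have hfH : (Nat.card H).factorization 7 = 1 := by
    have h1 : 1 ≤ (Nat.card H).factorization 7 := by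
      apply (hp.out.pow_dvd_iff_le_factorization hH0).mp
      rwa [pow_one]
    have h2 : ¬ 2 ≤ (Nat.card H).factorization 7 := by
      intro h
      have h3 := (hp.out.pow_dvd_iff_le_factorization hH0).mpr h
      have h4 : 7 ^ 2 ∣ Nat.card G := h3.trans (Subgroup.card_subgroup_dvd_card H)
      rw [hG] at h4
      norm_num at h4
    omega
  have hQc : Nat.card (Q : Subgroup H) = 7 := by
    rw [Sylow.card_eq_multiplicity, hfH, pow_one]
  -- the image of Q in G is a Sylow subgroup
  have hQ'c : Nat.card ((Q : Subgroup H).map H.subtype) = 7 ^ (Nat.card G).factorization 7 := by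
    rw [Subgroup.card_map_of_injective H.subtype_injective, hQc, hfG, pow_one]
  let Q' : Sylow 7 G := Sylow.ofCard _ hQ'c
  have hNQ' : Nat.card (Subgroup.normalizer ((Q' : Subgroup G) : Set G)) = 21 := by
    rw [card_normalizer_sylow 7 Q' P7, hN]
  -- the normalizer in H
  have hle : (Subgroup.normalizer ((Q : Subgroup H) : Set H)).map H.subtype ≤
      Subgroup.normalizer ((Q' : Subgroup G) : Set G) := by
    rintro _ ⟨h, hh0, rfl⟩
    have hh : h ∈ Subgroup.normalizer ((Q : Subgroup H) : Set H) := hh0
    rw [Subgroup.mem_normalizer_iff] at hh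
    show H.subtype h ∈ Subgroup.normalizer (((Q : Subgroup H).map H.subtype : Subgroup G) : Set G)
    rw [Subgroup.mem_normalizer_iff]
    intro x
    change x ∈ (Q : Subgroup H).map H.subtype ↔ _ ∈ (Q : Subgroup H).map H.subtype
    constructor
    · rintro ⟨y, hy, rfl⟩
      exact ⟨h * y * h⁻¹, (hh y).mp hy, rfl⟩
    · rintro ⟨y, hy, hyx⟩
      have hx : x = H.subtype (h⁻¹ * y * h) := by
        have : (H.subtype y : G) = H.subtype h * x * (H.subtype h)⁻¹ := hyx
        rw [map_mul, map_mul, map_inv, this]
        group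
      refine ⟨h⁻¹ * y * h, ?_, hx.symm⟩
      apply (hh (h⁻¹ * y * h)).mpr
      have : h * (h⁻¹ * y * h) * h⁻¹ = y := by group
      rw [this]
      exact hy
  have hd21 : Nat.card (Subgroup.normalizer ((Q : Subgroup H) : Set H)) ∣ 21 := by
    have h1 := Subgroup.card_dvd_of_le hle
    rwa [Subgroup.card_map_of_injective H.subtype_injective, hNQ'] at h1
  have h7d : 7 ∣ Nat.card (Subgroup.normalizer ((Q : Subgroup H) : Set H)) := by
    have h1 := Subgroup.card_dvd_of_le (Subgroup.le_normalizer (H := (Q : Subgroup H)))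
    rwa [hQc] at h1
  refine ⟨Nat.card (Sylow 7 H), Nat.card (Subgroup.normalizer ((Q : Subgroup H) : Set H)), ?_,
    ?_, hd21, h7d⟩
  · have e1 : Nat.card (Sylow 7 H) = (Subgroup.normalizer ((Q : Subgroup H) : Set H)).index :=
      Q.card_eq_index_normalizer
    rw [e1]
    exact (Subgroup.index_mul_card _).symm
  · exact card_sylow_modEq_one 7 H

end Cfsg.Agent.Helper9.U35M
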