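import Mathlib
import Cfsg.Agent.Helper9.U35M.LemA
import Cfsg.Agent.Helper9.U35M.Syl7
import Cfsg.Agent.Helper9.U35M.Arith

/-!
# A simple group of order 126000 with the two actions has no proper subgroup of index below 50
-/

set_option autoImplicit false

namespace Cfsg.Agent.Helper9.U35M

open MulAction

variable {G X : Type*} [Group G] [Finite G]

theorem factorization_five (hG : Nat.card G = 126000) : (Nat.card G).factorization 5 = 3 := by
  have hp : Nat.Prime 5 := by norm_num
  have hG0 : Nat.card G ≠ 0 := Nat.card_pos.ne'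
  have h1 : 3 ≤ (Nat.card G).factorization 5 := by
    apply (hp.pow_dvd_iff_le_factorization hG0).mp
    rw [hG]
    norm_num
  have h2 : ¬ 4 ≤ (Nat.card G).factorization 5 := by
    intro h
    have := (hp.pow_dvd_iff_le_factorization hG0).mpr h
    rw [hG] at this
    norm_num at this
  omega

/-- the elements of order 5 have at most one fixed point when those of a subgroup of order 125
do. -/
theorem h5_of_sylow [MulAction G X] (hG : Nat.card G = 126000) (S : Subgroup G)
    (hS : Nat.card S = 125)
    (hSfix : ∀ s ∈ S, s ≠ 1 → ∀ x y : X, s • x = x → s • y = y → x = y) :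
    ∀ g : G, orderOf g = 5 → ∀ x y : X, g • x = x → g • y = y → x = y := by
  have hp : Fact (Nat.Prime 5) := ⟨by norm_num⟩
  have hSc : Nat.card S = 5 ^ (Nat.card G).factorization 5 := by
    rw [factorization_five hG, hS]
    norm_num
  let PS : Sylow 5 G := Sylow.ofCard S hSc
  intro g hg x y hx hy
  have hz : IsPGroup 5 (Subgroup.zpowers g) := by
    apply IsPGroup.of_card (n := 1)
    rw [Nat.card_zpowers, hg, pow_one]
  obtain ⟨Q, hQ⟩ := hz.exists_le_sylow
  obtain ⟨c, hc⟩ := MulAction.exists_smul_eq G PS Q
  have hgQ : g ∈ (Q : Subgroup G) := hQ (Subgroup.mem_zpowers g)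
  rw [← hc, Sylow.coe_subgroup_smul] at hgQ
  obtain ⟨s, hs, hsg⟩ := (Subgroup.mem_smul_pointwise_iff_exists _ _ _).mp hgQ
  have hsS : s ∈ S := hs
  have hsg' : c * s * c⁻¹ = g := hsg
  have hs1 : s ≠ 1 := by
    rintro rfl
    rw [mul_one, mul_inv_cancel] at hsg'
    rw [← hsg', orderOf_one] at hg
    norm_num at hg
  have key : ∀ z : X, g • z = z → s • (c⁻¹ • z) = c⁻¹ • z := by
    intro z hz
    have h1 : s = c⁻¹ * g * c := by rw [← hsg']; group
    rw [h1, mul_smul, mul_smul, smul_inv_smul, hz]
  have h2 := hSfix s hsS hs1 _ _ (key x hx) (key y hy)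
  exact smul_left_cancel _ h2

/-- a proper subgroup of a simple group of index `n` embeds the group in the permutations of `n`
letters. -/
theorem card_dvd_factorial_index [IsSimpleGroup G] (H : Subgroup G) (hH : H ≠ ⊤) :
    Nat.card G ∣ H.index.factorial := by
  have hcore : H.normalCore = ⊥ := by
    rcases (Subgroup.normalCore_normal H).eq_bot_or_eq_top with h | h
    · exact h
    · exfalso
      apply hH
      rw [eq_top_iff, ← h]
      exact Subgroup.normalCore_le H
  have hker : (MulAction.toPermHom G (G ⧸ H)).ker = ⊥ := by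
    rw [← Subgroup.normalCore_eq_ker, hcore]
  have hinj : Function.Injective (MulAction.toPermHom G (G ⧸ H)) :=
    (MonoidHom.ker_eq_bot_iff _).mp hker
  have h1 := Subgroup.card_dvd_of_injective _ hinj
  rwa [Nat.card_perm, ← Subgroup.index_eq_card] at h1

theorem index_ge_fifty [IsSimpleGroup G] [Fintype X] [DecidableEq X] [MulAction G X]
    [IsPretransitive G X] (hG : Nat.card G = 126000) (hX : Fintype.card X = 126)
    (h5 : ∀ g : G, orderOf g = 5 → ∀ x y : X, g • x = x → g • y = y → x = y)
    (P7 : Sylow 7 G) (hN : Nat.card (Subgroup.normalizer ((P7 : Subgroup G) : Set G)) = 21)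
    (H : Subgroup G) (hH : H ≠ ⊤) : 50 ≤ H.index := by
  by_contra hcon
  have hn : H.index < 50 := by omega
  have hmul : H.index * Nat.card H = 126000 := by
    rw [Subgroup.index_mul_card, hG]
  have hn1 : H.index ≠ 1 := by
    rw [Ne, Subgroup.index_eq_one]
    exact hH
  have hfact : 126000 ∣ H.index.factorial := by
    rw [← hG]
    exact card_dvd_factorial_index H hH
  exact arith H.index (Nat.card H) hmul hn hn1 hfact (fun h => lemmaA hG hX h5 H h)
    (fun h => syl7 hG P7 hN H h)

end Cfsg.Agent.Helper9.U35M
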