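import Mathlib
import Cfsg.Agent.Helper9.U35.Iso

/-!
# Actions of the presented group `P35` by tables

Six tables packed in numbers (the three generators and their inverses) on `n` points on which the relators act
trivially give a homomorphism from the presented group to the permutations of `Fin n`; words act as
the compositions of the tables.
-/

set_option autoImplicit false

namespace Cfsg.Agent.Helper9.U35M

open Cfsg Cfsg.Agent.Helper5.StemP Cfsg.Agent.Helper5.LP Cfsg.Agent.Helper9.U35

/-- the entry of a table packed in a number, eight bits for an entry. -/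
def lk (l : ℕ) (i : ℕ) : ℕ := Nat.land (Nat.shiftRight l (Nat.mul 8 i)) 255

/-- the action of a word on a point: the first letter acts last. -/
def evalW (T : ℕ → ℕ) (w : List ℕ) (x : ℕ) : ℕ := w.foldr (fun c y => lk (T c) y) x

theorem evalW_nil (T : ℕ → ℕ) (x : ℕ) : evalW T [] x = x := rfl

theorem evalW_cons (T : ℕ → ℕ) (c : ℕ) (w : List ℕ) (x : ℕ) :
    evalW T (c :: w) x = lk (T c) (evalW T w x) := rfl

theorem evalW_append (T : ℕ → ℕ) (w w' : List ℕ) (x : ℕ) :
    evalW T (w ++ w') x = evalW T w (evalW T w' x) := by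
  unfold evalW
  rw [List.foldr_append]

/-- two tables are inverse permutations of the first `n` numbers. -/
def chkInv (n : ℕ) (l l' : ℕ) : Bool :=
  (List.range n).all fun i =>
    decide (lk l i < n) && decide (lk l' i < n) && (lk l' (lk l i) == i) && (lk l (lk l' i) == i)

theorem chkInv_spec {n : ℕ} {l l' : ℕ} (h : chkInv n l l' = true) {i : ℕ} (hi : i < n) :
    lk l i < n ∧ lk l' i < n ∧ lk l' (lk l i) = i ∧ lk l (lk l' i) = i := by
  unfold chkInv at h
  rw [List.all_eq_true] at h
  have h1 := h i (List.mem_range.mpr hi)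
  simp only [Bool.and_eq_true, decide_eq_true_eq, beq_iff_eq] at h1
  exact ⟨h1.1.1.1, h1.1.1.2, h1.1.2, h1.2⟩

/-- the permutation of two inverse tables. -/
def permOf (n : ℕ) (l l' : ℕ) (h : chkInv n l l' = true) : Equiv.Perm (Fin n) where
  toFun i := ⟨lk l i.val, (chkInv_spec h i.isLt).1⟩
  invFun i := ⟨lk l' i.val, (chkInv_spec h i.isLt).2.1⟩
  left_inv i := Fin.ext (chkInv_spec h i.isLt).2.2.1
  right_inv i := Fin.ext (chkInv_spec h i.isLt).2.2.2

theorem permOf_val {n : ℕ} {l l' : ℕ} (h : chkInv n l l' = true) (i : Fin n) :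
    (permOf n l l' h i).val = lk l i.val := rfl

theorem permOf_inv_val {n : ℕ} {l l' : ℕ} (h : chkInv n l l' = true) (i : Fin n) :
    ((permOf n l l' h)⁻¹ i).val = lk l' i.val := rfl

/-- the element of a word. -/
noncomputable def E (w : List ℕ) : P35 := ev (2 * 3) (coverRels 3 mm C2 C2 1) w

/-- six tables on `n` points on which the relators act trivially. -/
structure PD where
  /-- the number of points. -/
  n : ℕ
  /-- the tables of the letters. -/
  T : ℕ → ℕ
  hinv : ∀ i, i < 3 → chkInv n (T (2 * i)) (T (2 * i + 1)) = true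
  hrel : ∀ r ∈ C2 ++ C2, ∀ x, x < n → evalW T r x = x
  hpow : ∀ i, i < 3 → ∀ x, x < n → evalW T (List.replicate (mm i) (2 * i)) x = x

namespace PD

variable (D : PD)

/-- the permutations of the generators. -/
def g (i : ℕ) : Equiv.Perm (Fin D.n) :=
  if h : i < 3 then permOf D.n (D.T (2 * i)) (D.T (2 * i + 1)) (D.hinv i h) else 1

theorem lval_val (c : ℕ) (hc : c < 6) (x : Fin D.n) :
    ((lval D.g c) x).val = lk (D.T c) x.val := by
  obtain ⟨i, rfl | rfl⟩ : ∃ i, c = 2 * i ∨ c = 2 * i + 1 := ⟨c / 2, by omega⟩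
  · have hi : i < 3 := by omega
    rw [lval_even]
    unfold g
    rw [dif_pos hi]
    rfl
  · have hi : i < 3 := by omega
    rw [lval_odd]
    unfold g
    rw [dif_pos hi]
    rfl

theorem prod_val : ∀ (w : List ℕ), (∀ c ∈ w, c < 6) → ∀ x : Fin D.n,
    (((w.map (lval D.g)).prod) x).val = evalW D.T w x.val
  | [], _, x => by simp [evalW]
  | c :: w, hw, x => by
    rw [List.map_cons, List.prod_cons, Equiv.Perm.mul_apply, evalW_cons,
      D.lval_val c (hw c List.mem_cons_self),
      prod_val w (fun c hc => hw c (List.mem_cons_of_mem _ hc)) x]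

theorem prod_eq_one (w : List ℕ) (hw : ∀ c ∈ w, c < 6)
    (h : ∀ x, x < D.n → evalW D.T w x = x) : (w.map (lval D.g)).prod = 1 := by
  ext x
  rw [D.prod_val w hw x, h x.val x.isLt]
  rfl

theorem g_pow : ∀ i, i < 3 → D.g i ^ mm i = 1 := by
  intro i hi
  have h := D.prod_eq_one (List.replicate (mm i) (2 * i)) (by
    intro c hc
    rw [List.eq_of_mem_replicate hc]
    omega) (D.hpow i hi)
  rwa [List.map_replicate, List.prod_replicate, lval_even] at h

theorem g_rel : ∀ r ∈ C2 ++ C2, (r.map (lval D.g)).prod = 1 := by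
  intro r hr
  exact D.prod_eq_one r (C22_lt r hr) (D.hrel r hr)

/-- the homomorphism of the tables. -/
noncomputable def rho : P35 →* Equiv.Perm (Fin D.n) :=
  coverHomU 3 mm C2 C2 1 C22_lt D.g D.g_pow D.g_rel

theorem rho_E (w : List ℕ) (hw : ∀ c ∈ w, c < 6) (x : Fin D.n) :
    (D.rho (E w) x).val = evalW D.T w x.val := by
  unfold rho E
  rw [coverHomU_ev 3 mm C2 C2 1 C22_lt D.g D.g_pow D.g_rel w hw]
  exact D.prod_val w hw x

/-- the homomorphism is injective as soon as some word moves some point. -/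
theorem rho_injective (w : List ℕ) (hw : ∀ c ∈ w, c < 6) (x : ℕ) (hx : x < D.n)
    (hne : evalW D.T w x ≠ x) : Function.Injective D.rho := by
  rw [← MonoidHom.ker_eq_bot_iff]
  rcases (MonoidHom.normal_ker D.rho).eq_bot_or_eq_top with h | h
  · exact h
  · exfalso
    have h1 : E w ∈ D.rho.ker := by
      rw [h]
      exact Subgroup.mem_top _
    rw [MonoidHom.mem_ker] at h1
    have h2 := D.rho_E w hw ⟨x, hx⟩
    rw [h1] at h2
    exact hne h2.symm

end PD

theorem E_nil : E [] = 1 := ev_nil

theorem E_append (w w' : List ℕ) : E (w ++ w') = E w * E w' := ev_append w w'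

theorem E_cons (c : ℕ) (w : List ℕ) : E (c :: w) = E [c] * E w := ev_cons c w

end Cfsg.Agent.Helper9.U35M
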