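import Mathlib
import Cfsg.Agent.Helper9.U35M.Tab

/-! generated: the action on the 50 cosets of the alternating group of degree 7 -/

set_option autoImplicit false
set_option Elab.async false
set_option maxRecDepth 1000000

namespace Cfsg.Agent.Helper9.U35M

open Cfsg.Agent.Helper9.U35

/-- the tables of the letters, packed. -/
def T50 : ℕ → ℕ
  | 0 => 496157321344611124803014259020725784857540047451774487582519836682176195679659053727385342426001180272631032625779376640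
  | 1 => 496157319540921355723133280326956906530432826102777412626253941113042872368956827845685176162876944956339045084468151040
  | 2 => 455770115294936223029584940033116249117968093723229748784224641280134289566544363921423392654682492813905609771324933120
  | 3 => 465778531496888749458578447550440703846951029870752760398557892809083224374287921706267963402398842273883707508091454720
  | 4 => 445524668365188257744974185967608259667774215014714422278950429568068437852641589466048486916785696723251552724290371585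
  | 5 => 445524668365188257744974185967608259667774215014714422278950429568068437852641589466048486916785696723251552724290371585
  | _ => 0

/-- the tables act on 50 points and satisfy the relators. -/
def D50 : PD where
  n := 50
  T := T50
  hinv := by decide +kernel
  hrel := by decide +kernel
  hpow := by decide +kernel

/-- words moving the point 0 to each point. -/
def tw50 : List (List ℕ) :=
  [[],
  [4],
  [0, 4],
  [1, 4],
  [2, 4],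
  [3, 4],
  [2, 0, 4],
  [3, 0, 4],
  [4, 0, 4],
  [4, 1, 4],
  [0, 2, 4],
  [1, 2, 4],
  [2, 2, 4],
  [0, 3, 4],
  [1, 3, 4],
  [3, 3, 4],
  [4, 3, 4],
  [0, 2, 0, 4],
  [1, 2, 0, 4],
  [2, 2, 0, 4],
  [0, 3, 0, 4],
  [1, 3, 0, 4],
  [3, 3, 0, 4],
  [0, 4, 0, 4],
  [1, 4, 0, 4],
  [2, 4, 0, 4],
  [1, 4, 1, 4],
  [2, 0, 2, 4],
  [3, 1, 2, 4],
  [0, 2, 2, 4],
  [3, 0, 3, 4],
  [2, 1, 3, 4],
  [3, 1, 3, 4],
  [0, 3, 3, 4],
  [3, 4, 3, 4],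
  [2, 0, 2, 0, 4],
  [3, 0, 2, 0, 4],
  [2, 0, 3, 0, 4],
  [3, 1, 3, 0, 4],
  [4, 0, 4, 0, 4],
  [0, 2, 4, 0, 4],
  [2, 2, 4, 0, 4],
  [4, 1, 4, 1, 4],
  [3, 3, 1, 2, 4],
  [0, 3, 4, 3, 4],
  [4, 2, 0, 2, 0, 4],
  [0, 4, 0, 4, 0, 4],
  [4, 0, 2, 4, 0, 4],
  [4, 3, 3, 1, 2, 4],
  [4, 0, 3, 4, 3, 4]]

theorem tw50_ok : ∀ y, y < 50 → (∀ c ∈ tw50.getD y [], c < 6) ∧ evalW T50 (tw50.getD y []) 0 = y := by
  decide +kernel

/-- the neighbours in the graph of valency 7. -/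
def nbr : List (List ℕ) :=
  [[39, 42, 45, 46, 47, 48, 49],
  [23, 26, 35, 40, 43, 44, 46],
  [9, 24, 32, 34, 35, 38, 42],
  [8, 16, 25, 34, 39, 41, 44],
  [20, 28, 29, 30, 38, 44, 49],
  [9, 17, 27, 31, 33, 44, 47],
  [14, 16, 20, 21, 23, 33, 42],
  [11, 17, 18, 29, 40, 41, 42],
  [3, 18, 19, 26, 33, 38, 45],
  [2, 5, 18, 23, 25, 37, 49],
  [15, 19, 21, 27, 35, 41, 49],
  [7, 12, 33, 34, 36, 43, 49],
  [11, 13, 21, 32, 37, 44, 45],
  [12, 16, 18, 22, 30, 35, 47],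
  [6, 15, 26, 29, 34, 37, 47],
  [10, 14, 18, 24, 36, 44, 48],
  [3, 6, 13, 24, 31, 40, 49],
  [5, 7, 21, 24, 26, 30, 39],
  [7, 8, 9, 13, 15, 20, 46],
  [8, 10, 30, 31, 37, 42, 43],
  [4, 6, 18, 27, 32, 39, 43],
  [6, 10, 12, 17, 25, 38, 46],
  [13, 25, 26, 27, 28, 36, 42],
  [1, 6, 9, 30, 36, 41, 45],
  [2, 15, 16, 17, 28, 43, 45],
  [3, 9, 21, 22, 29, 43, 48],
  [1, 8, 14, 17, 22, 32, 49],
  [5, 10, 20, 22, 34, 40, 45],
  [4, 22, 24, 33, 37, 41, 46],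
  [4, 7, 14, 25, 31, 35, 45],
  [4, 13, 17, 19, 23, 34, 48],
  [5, 16, 19, 29, 32, 36, 46],
  [2, 12, 20, 26, 31, 41, 48],
  [5, 6, 8, 11, 28, 35, 48],
  [2, 3, 11, 14, 27, 30, 46],
  [1, 2, 10, 13, 29, 33, 39],
  [11, 15, 22, 23, 31, 38, 39],
  [9, 12, 14, 19, 28, 39, 40],
  [2, 4, 8, 21, 36, 40, 47],
  [0, 3, 17, 20, 35, 36, 37],
  [1, 7, 16, 27, 37, 38, 48],
  [3, 7, 10, 23, 28, 32, 47],
  [0, 2, 6, 7, 19, 22, 44],
  [1, 11, 19, 20, 24, 25, 47],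
  [1, 3, 4, 5, 12, 15, 42],
  [0, 8, 12, 23, 24, 27, 29],
  [0, 1, 18, 21, 28, 31, 34],
  [0, 5, 13, 14, 38, 41, 43],
  [0, 15, 25, 30, 32, 33, 40],
  [0, 4, 9, 10, 11, 16, 26]]

/-- adjacency. -/
def adj (x y : ℕ) : Bool := (nbr.getD x []).contains y

theorem adj_inv : ∀ c, c < 6 → ∀ x, x < 50 → ∀ y, y < 50 →
    adj (lk (T50 c) x) (lk (T50 c) y) = adj x y := by
  decide +kernel

/-- the base. -/
def base50 : List ℕ := [0, 39, 46, 49, 45, 48]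

/-- the words of the levels of the chain. -/
def cw50 : List (List (List ℕ)) :=
  [[[],
  [4],
  [0, 4],
  [1, 4],
  [2, 4],
  [3, 4],
  [2, 0, 4],
  [3, 0, 4],
  [4, 0, 4],
  [4, 1, 4],
  [0, 2, 4],
  [1, 2, 4],
  [2, 2, 4],
  [0, 3, 4],
  [1, 3, 4],
  [3, 3, 4],
  [4, 3, 4],
  [0, 2, 0, 4],
  [1, 2, 0, 4],
  [2, 2, 0, 4],
  [0, 3, 0, 4],
  [1, 3, 0, 4],
  [3, 3, 0, 4],
  [0, 4, 0, 4],
  [1, 4, 0, 4],
  [2, 4, 0, 4],
  [1, 4, 1, 4],
  [2, 0, 2, 4],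
  [3, 1, 2, 4],
  [0, 2, 2, 4],
  [3, 0, 3, 4],
  [2, 1, 3, 4],
  [3, 1, 3, 4],
  [0, 3, 3, 4],
  [3, 4, 3, 4],
  [2, 0, 2, 0, 4],
  [3, 0, 2, 0, 4],
  [2, 0, 3, 0, 4],
  [3, 1, 3, 0, 4],
  [4, 0, 4, 0, 4],
  [0, 2, 4, 0, 4],
  [2, 2, 4, 0, 4],
  [4, 1, 4, 1, 4],
  [3, 3, 1, 2, 4],
  [0, 3, 4, 3, 4],
  [4, 2, 0, 2, 0, 4],
  [0, 4, 0, 4, 0, 4],
  [4, 0, 2, 4, 0, 4],
  [4, 3, 3, 1, 2, 4],
  [4, 0, 3, 4, 3, 4]],
  [[],
  [1],
  [2, 2, 0],
  [0],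
  [3, 0],
  [3, 3, 0],
  [2, 0]],
  [[0, 3, 1, 2],
  [2, 2],
  [],
  [3],
  [3, 3],
  [2]],
  [[0, 3, 1],
  [0, 2, 1],
  [0, 3, 3, 1],
  [0, 2, 2, 1],
  []],
  [[2, 2, 0, 2, 2, 1, 2],
  [],
  [3, 0, 3, 3, 1, 3, 3],
  [3, 3, 0, 3, 1, 3, 3]],
  [[3, 3, 0, 2, 1, 2],
  [3, 0, 3, 1, 2, 2],
  []]]

/-- the sizes of the orbits of the chain. -/
def cm50 : List ℕ := [50, 7, 6, 5, 4, 3]

theorem cw50_ok : ∀ i, i < 6 → (cw50.getD i []).length = cm50.getD i 0 ∧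
    ∀ j, j < cm50.getD i 0 → (∀ c ∈ (cw50.getD i []).getD j [], c < 6) ∧
      (∀ k, k < i → evalW T50 ((cw50.getD i []).getD j []) (base50.getD k 0) = base50.getD k 0) ∧
      ∀ j', j' < cm50.getD i 0 →
        evalW T50 ((cw50.getD i []).getD j []) (base50.getD i 0) =
          evalW T50 ((cw50.getD i []).getD j' []) (base50.getD i 0) → j = j' := by
  decide +kernel

end Cfsg.Agent.Helper9.U35M
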