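import Mathlib
import Cfsg.Agent.Helper9.U35M.Syl7

/-!
# The normalizer of a subgroup of order 7

A chain of stabilizers bounds the order of a group from below; an element of order 7 with a unique
fixed point whose neighbours in an invariant graph form one of its cycles, in an action where only
the identity fixes the point and its neighbours, has a normalizer of order at most 49, hence 21 in a
group of order 126000.
-/

set_option autoImplicit false

namespace Cfsg.Agent.Helper9.U35M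

open MulAction

variable {G Y : Type*} [Group G] [Finite G] [MulAction G Y]

/-- a step of a chain of stabilizers. -/
theorem chain_step (K : Subgroup G) (b : Y) (m : ℕ) (g : Fin m → G) (hK : ∀ i, g i ∈ K)
    (hinj : ∀ i j, g i • b = g j • b → i = j) :
    m * Nat.card ↥(K ⊓ stabilizer G b) ≤ Nat.card K := by
  let f : Fin m × ↥(K ⊓ stabilizer G b) → ↥K :=
    fun p => ⟨g p.1 * p.2.1, K.mul_mem (hK p.1) p.2.2.1⟩
  have hf : Function.Injective f := by
    rintro ⟨i, s⟩ ⟨j, s'⟩ h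
    have h1 : g i * s.1 = g j * s'.1 := congrArg Subtype.val h
    have hs : s.1 • b = b := s.2.2
    have hs' : s'.1 • b = b := s'.2.2
    have h2 : g i • b = g j • b := by
      calc g i • b = (g i * s.1) • b := by rw [mul_smul, hs]
        _ = (g j * s'.1) • b := by rw [h1]
        _ = g j • b := by rw [mul_smul, hs']
    have hij := hinj i j h2
    subst hij
    have h3 : s.1 = s'.1 := mul_left_cancel h1
    rw [Subtype.ext h3]
  have h := Nat.card_le_card_of_injective f hf
  rwa [Nat.card_prod, Nat.card_fin] at h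

omit [Finite G] in
theorem zpow_smul_eq_self {g : G} {x : Y} (h : g • x = x) (n : ℤ) : g ^ n • x = x := by
  have h1 : g ∈ stabilizer G x := h
  exact (stabilizer G x).zpow_mem h1 n

omit [Finite G] in
theorem exists_fin_pow (g7 : G) (h7 : g7 ^ 7 = 1) {z : G} (hz : z ∈ Subgroup.zpowers g7) :
    ∃ k : Fin 7, z = g7 ^ (k : ℕ) := by
  obtain ⟨k, rfl⟩ := Subgroup.mem_zpowers_iff.mp hz
  have h7' : g7 ^ (7 : ℤ) = 1 := by
    have : g7 ^ ((7 : ℕ) : ℤ) = 1 := by rw [zpow_natCast, h7]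
    simpa using this
  have h1 : g7 ^ k = g7 ^ (k % 7) := zpow_eq_zpow_emod k h7'
  have h2 : 0 ≤ k % 7 := Int.emod_nonneg k (by norm_num)
  have h3 : k % 7 < 7 := Int.emod_lt_of_pos k (by norm_num)
  refine ⟨⟨(k % 7).toNat, by omega⟩, ?_⟩
  rw [h1]
  change g7 ^ (k % 7) = g7 ^ (k % 7).toNat
  rw [← zpow_natCast, Int.toNat_of_nonneg h2]

theorem card_normalizer_le (g7 : G) (v0 d0 : Y) (R : Y → Y → Prop)
    (hfix : ∀ y, g7 • y = y → y = v0) (hfix0 : g7 • v0 = v0)
    (hR : ∀ g : G, ∀ x y, R x y → R (g • x) (g • y))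
    (hnb : ∀ y, R v0 y → ∃ j : Fin 7, y = g7 ^ (j : ℕ) • d0) (hRd : R v0 d0)
    (h7 : g7 ^ 7 = 1)
    (hbase : ∀ g : G, g • v0 = v0 → (∀ j : Fin 7, g • (g7 ^ (j : ℕ) • d0) = g7 ^ (j : ℕ) • d0) →
      g = 1) :
    Nat.card (Subgroup.normalizer ((Subgroup.zpowers g7 : Subgroup G) : Set G)) ≤ 49 := by
  set N := Subgroup.normalizer ((Subgroup.zpowers g7 : Subgroup G) : Set G) with hNdef
  have hmem : g7 ∈ Subgroup.zpowers g7 := Subgroup.mem_zpowers g7
  have hconj : ∀ x ∈ N, ∃ k : Fin 7, x * g7 * x⁻¹ = g7 ^ (k : ℕ) := by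
    intro x hx
    have h1 := (Subgroup.mem_normalizer_iff.mp hx g7).mp hmem
    exact exists_fin_pow g7 h7 h1
  have hv0 : ∀ x ∈ N, x • v0 = v0 := by
    intro x hx
    apply hfix
    obtain ⟨k, hk⟩ := hconj x⁻¹ (N.inv_mem hx)
    rw [inv_inv] at hk
    have h1 : g7 * x = x * (x⁻¹ * g7 * x) := by group
    rw [← mul_smul, h1, hk, mul_smul, pow_smul_eq_self' hfix0]
  have hd0 : ∀ x ∈ N, ∃ j : Fin 7, x • d0 = g7 ^ (j : ℕ) • d0 := by
    intro x hx
    have h1 := hR x v0 d0 hRd
    rw [hv0 x hx] at h1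
    exact hnb _ h1
  choose! kf hkf using hconj
  choose! jf hjf using hd0
  let f : ↥N → Fin 7 × Fin 7 := fun x => (jf x.1, kf x.1)
  have hf : Function.Injective f := by
    intro x y hxy
    have hj : jf x.1 = jf y.1 := congrArg Prod.fst hxy
    have hk : kf x.1 = kf y.1 := congrArg Prod.snd hxy
    have hx1 := hkf x.1 x.2
    have hy1 := hkf y.1 y.2
    have hx2 := hjf x.1 x.2
    have hy2 := hjf y.1 y.2
    rw [hk] at hx1
    rw [hj] at hx2
    -- w = y⁻¹ x
    have hcomm : Commute (y.1⁻¹ * x.1) g7 := by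
      have h1 : x.1 * g7 * x.1⁻¹ = y.1 * g7 * y.1⁻¹ := by rw [hx1, hy1]
      have h2 : y.1⁻¹ * x.1 * g7 = g7 * (y.1⁻¹ * x.1) := by
        calc y.1⁻¹ * x.1 * g7 = y.1⁻¹ * (x.1 * g7 * x.1⁻¹) * x.1 := by group
          _ = y.1⁻¹ * (y.1 * g7 * y.1⁻¹) * x.1 := by rw [h1]
          _ = g7 * (y.1⁻¹ * x.1) := by group
      exact h2
    have hw0 : (y.1⁻¹ * x.1) • v0 = v0 := by
      rw [mul_smul, hv0 x.1 x.2]
      have := hv0 y.1 y.2
      calc y.1⁻¹ • v0 = y.1⁻¹ • (y.1 • v0) := by rw [this]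
        _ = v0 := inv_smul_smul _ _
    have hwd : (y.1⁻¹ * x.1) • d0 = d0 := by
      rw [mul_smul, hx2, ← hy2, inv_smul_smul]
    have hw : y.1⁻¹ * x.1 = 1 := by
      apply hbase _ hw0
      intro j
      rw [← mul_smul, (hcomm.pow_right _).eq, mul_smul, hwd]
    apply Subtype.ext
    have := inv_mul_eq_one.mp hw
    exact this.symm
  have h := Nat.card_le_card_of_injective f hf
  rwa [Nat.card_prod, Nat.card_fin] at h
where
  pow_smul_eq_self' {g : G} {x : Y} (h : g • x = x) {n : ℕ} : g ^ n • x = x := by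
    have h1 : g ∈ stabilizer G x := h
    exact (stabilizer G x).pow_mem h1 n

theorem card_normalizer_eq (hG : Nat.card G = 126000) (g7 : G) (ho : orderOf g7 = 7)
    (hle : Nat.card (Subgroup.normalizer ((Subgroup.zpowers g7 : Subgroup G) : Set G)) ≤ 49) :
    ∃ P7 : Sylow 7 G, Nat.card (Subgroup.normalizer ((P7 : Subgroup G) : Set G)) = 21 := by
  have hp : Fact (Nat.Prime 7) := ⟨by norm_num⟩
  have hc : Nat.card (Subgroup.zpowers g7) = 7 ^ (Nat.card G).factorization 7 := by
    rw [Nat.card_zpowers, ho, factorization_seven hG, pow_one]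
  refine ⟨Sylow.ofCard _ hc, ?_⟩
  change Nat.card (Subgroup.normalizer ((Subgroup.zpowers g7 : Subgroup G) : Set G)) = 21
  set n := Nat.card (Subgroup.normalizer ((Subgroup.zpowers g7 : Subgroup G) : Set G)) with hn
  have h1 := Subgroup.index_mul_card (Subgroup.normalizer ((Subgroup.zpowers g7 : Subgroup G) : Set G))
  have e1 : Nat.card (Sylow 7 G) =
      (Subgroup.normalizer ((Subgroup.zpowers g7 : Subgroup G) : Set G)).index :=
    (Sylow.ofCard _ hc).card_eq_index_normalizer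
  have h2 : Nat.card (Sylow 7 G) % 7 = 1 := card_sylow_modEq_one 7 G
  rw [← e1, hG, ← hn] at h1
  have h7 : 7 ∣ n := by
    have h3 := Subgroup.card_dvd_of_le (Subgroup.le_normalizer (H := Subgroup.zpowers g7))
    rwa [Nat.card_zpowers, ho] at h3
  have hn0 : 0 < n := Nat.card_pos
  obtain ⟨c, hc'⟩ := h7
  have hc49 : c ≤ 7 := by omega
  have hc0 : 0 < c := by omega
  rw [hc'] at h1 ⊢
  interval_cases c <;> omega

end Cfsg.Agent.Helper9.U35M
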