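import Mathlib
import Cfsg.Agent.Helper9.U35M.S5Dat

/-!
# The action on 126 points and a Sylow 5-subgroup

The presented group acts faithfully and transitively on 126 points; the subgroup generated by two
words has the 125 tables of `S5Dat`, so it has order 125 and its elements other than the identity
have the single fixed point 59.
-/

set_option autoImplicit false

namespace Cfsg.Agent.Helper9.U35M

open Cfsg Cfsg.Agent.Helper5.StemP Cfsg.Agent.Helper5.LP Cfsg.Agent.Helper9.U35
  Cfsg.Agent.Helper9.J3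

theorem rho126_inj : Function.Injective D126.rho :=
  D126.rho_injective [0] (by decide) 0 (by decide) (by decide +kernel)

/-- a word acting trivially on the 126 points is trivial. -/
theorem E_eq_one_of_evalW (w : List ℕ) (hw : ∀ c ∈ w, c < 6)
    (h : ∀ x, x < 126 → evalW T126 w x = x) : E w = 1 := by
  apply rho126_inj
  rw [map_one]
  ext x
  rw [D126.rho_E w hw x]
  exact h x.val x.isLt

/-! ### decoding the tests -/

theorem zero_spec : ∀ x, x < 126 → lk (Lt.getD 0 0) x = x := by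
  intro x hx
  have h := chkZero_ok
  unfold chkZero at h
  rw [sapp_eq] at h
  exact Nat.eq_of_beq_eq_true (allB_true h hx)

theorem nxt_spec : ∀ s, s < 4 → ∀ t, t < 125 → lk (nxtT.getD s 0) t < 125 ∧
    ∀ x, x < 126 → evalW T126 (sw.getD s []) (lk (Lt.getD t 0) x) =
      lk (Lt.getD (lk (nxtT.getD s 0) t) 0) x := by
  intro s hs t ht
  have h := chkNxt_ok
  unfold chkNxt at h
  have h1 := allB_true h hs
  rw [sapp_eq] at h1
  have h2 := allB_true h1 ht
  rw [sapp_eq] at h2
  obtain ⟨h3, h4⟩ := andB_true h2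
  rw [sapp_eq, sapp_eq] at h4
  exact ⟨Nat.le_of_ble_eq_true h3, fun x hx => Nat.eq_of_beq_eq_true (allB_true h4 hx)⟩

theorem fp_spec : ∀ t, t < 125 → lk fpT t = lk (Lt.getD t 0) 0 := by
  intro t ht
  have h := chkFp_ok
  unfold chkFp at h
  exact Nat.eq_of_beq_eq_true (allB_true h ht)

theorem fix_spec : ∀ t, t < 125 → 0 < t → ∀ x, x < 126 → lk (Lt.getD t 0) x = x → x = 59 := by
  intro t ht ht0 x hx hfx
  have h := chkFix_ok
  unfold chkFix at h
  have h1 := allB_true h ht
  rw [ifz_pos (by omega), sapp_eq] at h1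
  rcases orB_true (allB_true h1 hx) with h2 | h2
  · exact Nat.eq_of_beq_eq_true h2
  · exfalso
    have h3 := notB_true h2
    rw [hfx] at h3
    simp at h3

/-! ### the subgroup -/

/-- the elements of the four words. -/
noncomputable def Es (s : ℕ) : P35 := E (sw.getD s [])

theorem Es_inv : Es 2 = (Es 0)⁻¹ ∧ Es 3 = (Es 1)⁻¹ := by
  have h0 : E (sw.getD 0 [] ++ sw.getD 2 []) = 1 :=
    E_eq_one_of_evalW _ (by decide) (by decide +kernel)
  have h1 : E (sw.getD 1 [] ++ sw.getD 3 []) = 1 :=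
    E_eq_one_of_evalW _ (by decide) (by decide +kernel)
  rw [E_append] at h0 h1
  exact ⟨(inv_eq_of_mul_eq_one_right h0).symm, (inv_eq_of_mul_eq_one_right h1).symm⟩

/-- the subgroup of order 125. -/
noncomputable def S5 : Subgroup P35 := Subgroup.closure {Es 0, Es 1}

theorem Es_mem : ∀ s, s < 4 → Es s ∈ S5 := by
  intro s hs
  have h0 : Es 0 ∈ S5 := Subgroup.subset_closure (by simp)
  have h1 : Es 1 ∈ S5 := Subgroup.subset_closure (by simp)
  interval_cases s
  · exact h0
  · exact h1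
  · rw [Es_inv.1]
    exact S5.inv_mem h0
  · rw [Es_inv.2]
    exact S5.inv_mem h1

/-- an element acts as a table. -/
def HasTab (g : P35) (t : ℕ) : Prop :=
  ∀ x : Fin D126.n, (D126.rho g x).val = lk (Lt.getD t 0) x.val

theorem hasTab_one : HasTab 1 0 := by
  intro x
  rw [map_one, zero_spec x.val x.isLt]
  rfl

theorem hasTab_mul {s : ℕ} (hs : s < 4) {y : P35} {t : ℕ} (ht : t < 125) (h : HasTab y t) :
    HasTab (Es s * y) (lk (nxtT.getD s 0) t) := by
  intro x
  rw [map_mul, Equiv.Perm.mul_apply]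
  unfold Es
  rw [D126.rho_E _ (sw_lt s hs), h x]
  exact (nxt_spec s hs t ht).2 x.val x.isLt

theorem exists_tab : ∀ g ∈ S5, ∃ t, t < 125 ∧ HasTab g t := by
  intro g hg
  unfold S5 at hg
  induction hg using Subgroup.closure_induction_left with
  | one => exact ⟨0, by norm_num, hasTab_one⟩
  | mul_left x hx y _ ih =>
    obtain ⟨t, ht, hy⟩ := ih
    rcases hx with rfl | rfl
    · exact ⟨_, (nxt_spec 0 (by norm_num) t ht).1, hasTab_mul (by norm_num) ht hy⟩
    · exact ⟨_, (nxt_spec 1 (by norm_num) t ht).1, hasTab_mul (by norm_num) ht hy⟩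
  | inv_mul_cancel x hx y _ ih =>
    obtain ⟨t, ht, hy⟩ := ih
    rcases hx with rfl | rfl
    · rw [← Es_inv.1]
      exact ⟨_, (nxt_spec 2 (by norm_num) t ht).1, hasTab_mul (by norm_num) ht hy⟩
    · rw [← Es_inv.2]
      exact ⟨_, (nxt_spec 3 (by norm_num) t ht).1, hasTab_mul (by norm_num) ht hy⟩

theorem exists_elt : ∀ t, t < 125 → ∃ g ∈ S5, HasTab g t := by
  intro t
  induction t using Nat.strong_induction_on with
  | _ t ih =>
    intro ht
    rcases Nat.eq_zero_or_pos t with rfl | ht0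
    · exact ⟨1, S5.one_mem, hasTab_one⟩
    · obtain ⟨h1, h2, h3⟩ := par_ok t ht ht0
      obtain ⟨g, hg, hgt⟩ := ih (lk parP t) h1 (by omega)
      refine ⟨Es (lk parS t) * g, S5.mul_mem (Es_mem _ h2) hg, ?_⟩
      have := hasTab_mul h2 (by omega : lk parP t < 125) hgt
      rwa [h3] at this

theorem tab_unique {g : P35} {t t' : ℕ} (ht : t < 125) (ht' : t' < 125) (h : HasTab g t)
    (h' : HasTab g t') : t = t' := by
  apply fp_inj t ht t' ht'
  rw [fp_spec t ht, fp_spec t' ht']
  have h0 := h ⟨0, by decide⟩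
  have h0' := h' ⟨0, by decide⟩
  rw [← h0, ← h0']

theorem eq_of_tab {g g' : P35} {t : ℕ} (h : HasTab g t) (h' : HasTab g' t) : g = g' := by
  apply rho126_inj
  ext x
  rw [h x, h' x]

theorem card_S5 : Nat.card S5 = 125 := by
  have hex : ∀ g : ↥S5, ∃ t : Fin 125, HasTab g.1 t.val := by
    intro g
    obtain ⟨t, ht, h⟩ := exists_tab g.1 g.2
    exact ⟨⟨t, ht⟩, h⟩
  choose f hf using hex
  have hinj : Function.Injective f := by
    intro g g' hgg
    apply Subtype.ext
    have h1 := hf g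
    have h2 := hf g'
    rw [hgg] at h1
    exact eq_of_tab h1 h2
  have hsurj : Function.Surjective f := by
    intro t
    obtain ⟨g, hg, hgt⟩ := exists_elt t.val t.isLt
    refine ⟨⟨g, hg⟩, ?_⟩
    apply Fin.ext
    exact tab_unique (f ⟨g, hg⟩).isLt t.isLt (hf ⟨g, hg⟩) hgt
  rw [Nat.card_congr (Equiv.ofBijective f ⟨hinj, hsurj⟩), Nat.card_fin]

theorem S5_fix : ∀ g ∈ S5, g ≠ 1 → ∀ x y : Fin D126.n, D126.rho g x = x → D126.rho g y = y →
    x = y := by
  intro g hg hg1 x y hx hy
  obtain ⟨t, ht, h⟩ := exists_tab g hg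
  have ht0 : 0 < t := by
    rcases Nat.eq_zero_or_pos t with rfl | h0
    · exact absurd (eq_of_tab h hasTab_one) hg1
    · exact h0
  have hx' : lk (Lt.getD t 0) x.val = x.val := by rw [← h x, hx]
  have hy' : lk (Lt.getD t 0) y.val = y.val := by rw [← h y, hy]
  apply Fin.ext
  rw [fix_spec t ht ht0 x.val x.isLt hx', fix_spec t ht ht0 y.val y.isLt hy']

/-! ### the action -/

/-- the action on the 126 points. -/
@[reducible] noncomputable def act126 : MulAction P35 (Fin D126.n) :=
  MulAction.compHom (Fin D126.n) D126.rho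

theorem pretransitive126 : @MulAction.IsPretransitive P35 (Fin D126.n) act126.toSMul := by
  letI := act126
  have key : ∀ y : Fin D126.n, ∃ g : P35, D126.rho g ⟨0, by decide⟩ = y := by
    intro y
    obtain ⟨h1, h2⟩ := tw126_ok y.val y.isLt
    refine ⟨E (tw126.getD y.val []), ?_⟩
    apply Fin.ext
    rw [D126.rho_E _ h1]
    exact h2
  constructor
  intro x y
  obtain ⟨gx, hgx⟩ := key x
  obtain ⟨gy, hgy⟩ := key y
  refine ⟨gy * gx⁻¹, ?_⟩
  change D126.rho (gy * gx⁻¹) x = y
  rw [map_mul, Equiv.Perm.mul_apply, map_inv, ← hgx]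
  have h1 : (D126.rho gx)⁻¹ (D126.rho gx ⟨0, by decide⟩) = ⟨0, by decide⟩ :=
    Equiv.symm_apply_apply _ _
  rw [h1, hgy]

end Cfsg.Agent.Helper9.U35M
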