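import Mathlib
import Cfsg.Agent.Helper9.U35M.D50
import Cfsg.Agent.Helper9.U35M.S5
import Cfsg.Agent.Helper9.U35M.Norm7

/-!
# The action on 50 points and the normalizer of a Sylow 7-subgroup

The presented group acts faithfully and transitively on the 50 vertices of a graph of valency 7;
a chain of stabilizers of six points ends in the trivial group; the element `a b` of order 7 fixes
the vertex 0 only and permutes its seven neighbours in a cycle, so the normalizer of the subgroup it
generates has order 21.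
-/

set_option autoImplicit false

namespace Cfsg.Agent.Helper9.U35M

open Cfsg Cfsg.Agent.Helper5.StemP Cfsg.Agent.Helper5.LP Cfsg.Agent.Helper9.U35 MulAction

theorem rho50_inj : Function.Injective D50.rho :=
  D50.rho_injective [4] (by decide) 0 (by decide) (by decide +kernel)

/-- the action on the 50 points. -/
@[reducible] noncomputable def act50 : MulAction P35 (Fin D50.n) :=
  MulAction.compHom (Fin D50.n) D50.rho

attribute [local instance] act50

theorem smul50 (g : P35) (x : Fin D50.n) : g • x = D50.rho g x := rfl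

theorem pretransitive50 : IsPretransitive P35 (Fin D50.n) := by
  have key : ∀ y : Fin D50.n, ∃ g : P35, D50.rho g ⟨0, by decide⟩ = y := by
    intro y
    obtain ⟨h1, h2⟩ := tw50_ok y.val y.isLt
    refine ⟨E (tw50.getD y.val []), ?_⟩
    apply Fin.ext
    rw [D50.rho_E _ h1]
    exact h2
  constructor
  intro x y
  obtain ⟨gx, hgx⟩ := key x
  obtain ⟨gy, hgy⟩ := key y
  refine ⟨gy * gx⁻¹, ?_⟩
  rw [smul50, map_mul, Equiv.Perm.mul_apply, map_inv, ← hgx]
  have h1 : (D50.rho gx)⁻¹ (D50.rho gx ⟨0, by decide⟩) = ⟨0, by decide⟩ :=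
    Equiv.symm_apply_apply _ _
  rw [h1, hgy]

/-! ### the chain -/

/-- the points of the base. -/
def bpt (i : ℕ) : Fin D50.n := if h : base50.getD i 0 < D50.n then ⟨base50.getD i 0, h⟩ else ⟨0, by decide⟩

theorem bpt_val : ∀ i, i < 6 → (bpt i).val = base50.getD i 0 := by decide

/-- the chain of stabilizers. -/
noncomputable def Kc : ℕ → Subgroup P35
  | 0 => ⊤
  | i + 1 => Kc i ⊓ stabilizer P35 (bpt i)

theorem mem_Kc : ∀ (i : ℕ) (g : P35), g ∈ Kc i ↔ ∀ k, k < i → g • bpt k = bpt k
  | 0, g => by simp [Kc]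
  | i + 1, g => by
    rw [Kc, Subgroup.mem_inf, mem_Kc i g, mem_stabilizer_iff]
    constructor
    · rintro ⟨h1, h2⟩ k hk
      rcases Nat.lt_succ_iff_lt_or_eq.mp hk with h | rfl
      · exact h1 k h
      · exact h2
    · intro h
      exact ⟨fun k hk => h k (by omega), h i (by omega)⟩

theorem chain_step50 (i : ℕ) (hi : i < 6) :
    cm50.getD i 0 * Nat.card (Kc (i + 1)) ≤ Nat.card (Kc i) := by
  obtain ⟨-, hw⟩ := cw50_ok i hi
  refine chain_step (Kc i) (bpt i) (cm50.getD i 0)
    (fun j => E ((cw50.getD i []).getD j.val [])) ?_ ?_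
  · intro j
    obtain ⟨h1, h2, -⟩ := hw j.val j.isLt
    rw [mem_Kc]
    intro k hk
    apply Fin.ext
    rw [smul50, D50.rho_E _ h1, bpt_val k (by omega)]
    exact h2 k hk
  · intro j j' hjj
    obtain ⟨h1, -, h3⟩ := hw j.val j.isLt
    obtain ⟨h1', -, -⟩ := hw j'.val j'.isLt
    apply Fin.ext
    apply h3 j'.val j'.isLt
    have := congrArg Fin.val hjj
    rwa [smul50, smul50, D50.rho_E _ h1, D50.rho_E _ h1', bpt_val i hi] at this

theorem Kc_six : Kc 6 = ⊥ := by
  have e0 : cm50.getD 0 0 = 50 := by decide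
  have e1 : cm50.getD 1 0 = 7 := by decide
  have e2 : cm50.getD 2 0 = 6 := by decide
  have e3 : cm50.getD 3 0 = 5 := by decide
  have e4 : cm50.getD 4 0 = 4 := by decide
  have e5 : cm50.getD 5 0 = 3 := by decide
  have s0 : cm50.getD 0 0 * Nat.card (Kc 1) ≤ Nat.card (Kc 0) := chain_step50 0 (by norm_num)
  have s1 : cm50.getD 1 0 * Nat.card (Kc 2) ≤ Nat.card (Kc 1) := chain_step50 1 (by norm_num)
  have s2 : cm50.getD 2 0 * Nat.card (Kc 3) ≤ Nat.card (Kc 2) := chain_step50 2 (by norm_num)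
  have s3 : cm50.getD 3 0 * Nat.card (Kc 4) ≤ Nat.card (Kc 3) := chain_step50 3 (by norm_num)
  have s4 : cm50.getD 4 0 * Nat.card (Kc 5) ≤ Nat.card (Kc 4) := chain_step50 4 (by norm_num)
  have s5 : cm50.getD 5 0 * Nat.card (Kc 6) ≤ Nat.card (Kc 5) := chain_step50 5 (by norm_num)
  rw [e0] at s0
  rw [e1] at s1
  rw [e2] at s2
  rw [e3] at s3
  rw [e4] at s4
  rw [e5] at s5
  have h0 : Nat.card (Kc 0) = 126000 := by
    change Nat.card (⊤ : Subgroup P35) = 126000
    rw [Subgroup.card_top, card_P35]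
  have hpos : 0 < Nat.card (Kc 6) := Nat.card_pos
  apply Subgroup.eq_bot_of_card_le
  omega

/-! ### the element of order 7 -/

/-- the element `a b`. -/
noncomputable def g7 : P35 := E [0, 2]

theorem g7_pow (j : ℕ) : g7 ^ j = E (List.replicate j [0, 2]).flatten := ev_pow _ j

theorem g7_pow_lt (j : ℕ) : ∀ c ∈ (List.replicate j [0, 2]).flatten, c < 6 := by
  intro c hc
  obtain ⟨l, hl, hcl⟩ := List.mem_flatten.mp hc
  rw [List.eq_of_mem_replicate hl] at hcl
  simp at hcl
  omega

theorem g7_pow_seven : g7 ^ 7 = 1 := by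
  rw [g7_pow]
  exact E_eq_one_of_evalW _ (g7_pow_lt 7) (by decide +kernel)

theorem g7_ne_one : g7 ≠ 1 := by
  intro h
  have h1 := D50.rho_E [0, 2] (by decide) ⟨39, by decide⟩
  change (D50.rho g7 _).val = _ at h1
  rw [h, map_one] at h1
  revert h1
  decide +kernel

theorem orderOf_g7 : orderOf g7 = 7 :=
  haveI : Fact (Nat.Prime 7) := ⟨by norm_num⟩
  orderOf_eq_prime g7_pow_seven g7_ne_one

/-- the vertex fixed by `a b`. -/
def v0 : Fin D50.n := ⟨0, by decide⟩

/-- a neighbour of the vertex. -/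
def d0 : Fin D50.n := ⟨39, by decide⟩

theorem g7_pow_smul (j : ℕ) (x : Fin D50.n) :
    (g7 ^ j • x).val = evalW T50 (List.replicate j [0, 2]).flatten x.val := by
  rw [smul50, g7_pow, D50.rho_E _ (g7_pow_lt j)]
  rfl

theorem g7_fix : ∀ y : Fin D50.n, g7 • y = y → y = v0 := by
  have h : ∀ y, y < 50 → evalW T50 [0, 2] y = y → y = 0 := by decide +kernel
  intro y hy
  apply Fin.ext
  apply h y.val y.isLt
  have h1 := g7_pow_smul 1 y
  rw [pow_one, hy] at h1
  exact h1.symm

theorem g7_fix0 : g7 • v0 = v0 := by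
  apply Fin.ext
  have h1 := g7_pow_smul 1 v0
  rw [pow_one] at h1
  rw [h1]
  decide +kernel

/-- adjacency of vertices. -/
def Radj (x y : Fin D50.n) : Prop := adj x.val y.val = true

/-- the subgroup of the elements preserving adjacency. -/
noncomputable def Kadj : Subgroup P35 where
  carrier := {g | ∀ x y : Fin D50.n, adj (g • x).val (g • y).val = adj x.val y.val}
  one_mem' := by
    intro x y
    rw [one_smul, one_smul]
  mul_mem' := by
    intro a b ha hb x y
    rw [mul_smul, mul_smul, ha, hb]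
  inv_mem' := by
    intro a ha x y
    have := ha (a⁻¹ • x) (a⁻¹ • y)
    rw [smul_inv_smul, smul_inv_smul] at this
    exact this.symm

theorem Kadj_top : Kadj = ⊤ := by
  rw [eq_top_iff, ← closure_gens (k := 2 * 3) (R := coverRels 3 mm C2 C2 1), Subgroup.closure_le]
  rintro _ ⟨c, hc, rfl⟩
  intro x y
  have hc6 : c < 6 := by omega
  have e : ∀ z : Fin D50.n, ((E [c] : P35) • z).val = lk (T50 c) z.val := by
    intro z
    rw [smul50, D50.rho_E [c] (by
      intro c' hc'
      rw [List.mem_singleton] at hc'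
      omega)]
    rfl
  change adj ((E [c] : P35) • x).val ((E [c] : P35) • y).val = _
  rw [e x, e y]
  exact adj_inv c hc6 x.val x.isLt y.val y.isLt

theorem Radj_smul (g : P35) (x y : Fin D50.n) (h : Radj x y) : Radj (g • x) (g • y) := by
  have hg : g ∈ Kadj := by
    rw [Kadj_top]
    exact Subgroup.mem_top g
  unfold Radj
  rw [hg x y]
  exact h

theorem Radj_nb : ∀ y : Fin D50.n, Radj v0 y → ∃ j : Fin 7, y = g7 ^ (j : ℕ) • d0 := by
  have h : ∀ y, y < 50 → adj 0 y = true →
      ∃ j, j < 7 ∧ y = evalW T50 (List.replicate j [0, 2]).flatten 39 := by decide +kernel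
  intro y hy
  obtain ⟨j, hj, hjy⟩ := h y.val y.isLt hy
  refine ⟨⟨j, hj⟩, ?_⟩
  apply Fin.ext
  rw [g7_pow_smul]
  exact hjy

theorem Radj_d0 : Radj v0 d0 := by
  unfold Radj
  decide +kernel

theorem base_of_pow : ∀ k, k < 5 →
    evalW T50 (List.replicate k [0, 2]).flatten 39 = base50.getD (k + 1) 0 := by
  decide +kernel

theorem hbase50 (g : P35) (h0 : g • v0 = v0)
    (h : ∀ j : Fin 7, g • (g7 ^ (j : ℕ) • d0) = g7 ^ (j : ℕ) • d0) : g = 1 := by
  have hg : g ∈ Kc 6 := by
    rw [mem_Kc]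
    intro k hk
    rcases Nat.eq_zero_or_pos k with rfl | hk0
    · have e : bpt 0 = v0 := by decide
      rw [e, h0]
    · obtain ⟨k', rfl⟩ : ∃ k', k = k' + 1 := ⟨k - 1, by omega⟩
      have e : bpt (k' + 1) = g7 ^ k' • d0 := by
        apply Fin.ext
        rw [bpt_val _ hk, g7_pow_smul]
        exact (base_of_pow k' (by omega)).symm
      rw [e]
      exact h ⟨k', by omega⟩
  rw [Kc_six, Subgroup.mem_bot] at hg
  exact hg

theorem exists_sylow_seven :
    ∃ P7 : Sylow 7 P35, Nat.card (Subgroup.normalizer ((P7 : Subgroup P35) : Set P35)) = 21 :=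
  card_normalizer_eq card_P35 g7 orderOf_g7
    (card_normalizer_le g7 v0 d0 Radj g7_fix g7_fix0 Radj_smul Radj_nb Radj_d0 g7_pow_seven
      hbase50)

end Cfsg.Agent.Helper9.U35M
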