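import Mathlib
import Cfsg.Agent.Helper9.U35M.AbsMain
import Cfsg.Agent.Helper9.U35M.N7
import Cfsg.Agent.S0827

/-!
# The proper subgroups of `PSU₃(5)` have index at least 50

The presented group `P35` acts on 126 points with the elements of order 5 fixing one point and on
50 points; its Sylow 7-normalizers have order 21; so its proper subgroups have index at least 50,
and the stabilizer of a point of the second action has index 50.  The statement is transported to
`PSU 3 F 5` for every field `F` with 25 elements.
-/

set_option autoImplicit false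

namespace Cfsg.Agent.Helper9.U35M

open Cfsg Cfsg.Agent.Helper9.U35 MulAction

theorem index_ge_P35 (H : Subgroup P35) (hH : H ≠ ⊤) : 50 ≤ H.index := by
  letI := act126
  haveI := pretransitive126
  obtain ⟨P7, hP7⟩ := exists_sylow_seven
  have hX : Fintype.card (Fin D126.n) = 126 := Fintype.card_fin 126
  refine index_ge_fifty card_P35 hX ?_ P7 hP7 H hH
  apply h5_of_sylow card_P35 S5 card_S5
  intro s hs hs1 x y hx hy
  exact S5_fix s hs hs1 x y hx hy

theorem exists_index_P35 : ∃ H : Subgroup P35, H.index = 50 := by
  letI := act50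
  haveI := pretransitive50
  refine ⟨stabilizer P35 v0, ?_⟩
  rw [index_stabilizer_of_transitive, Nat.card_eq_fintype_card]
  exact Fintype.card_fin 50

theorem main {F : Type*} [Field F] [Fintype F] (hF : Fintype.card F = 25) :
    (∀ H : Subgroup (Cfsg.PSU 3 F 5), H ≠ ⊤ → 50 ≤ H.index) ∧
      ∃ H : Subgroup (Cfsg.PSU 3 F 5), H.index = 50 := by
  have e : F25 ≃+* F := FiniteField.ringEquivOfCardEq (F25.card_eq.trans hF.symm)
  let iso : P35 ≃* Cfsg.PSU 3 F 5 := isoP.trans (Cfsg.Agent.S0827.psuEquiv e 3 5)
  constructor
  · intro H hH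
    have h1 : (H.comap iso.toMonoidHom).index = H.index :=
      Subgroup.index_comap_of_surjective H iso.surjective
    rw [← h1]
    apply index_ge_P35
    intro hcon
    apply hH
    apply Subgroup.comap_injective (f := iso.toMonoidHom) iso.surjective
    rw [hcon, Subgroup.comap_top]
  · obtain ⟨H, hH⟩ := exists_index_P35
    exact ⟨H.map (iso : P35 →* Cfsg.PSU 3 F 5), by rw [Subgroup.index_map_equiv, hH]⟩

end Cfsg.Agent.Helper9.U35M
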